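import Cfsg.Agent.S0205
import Mathlib.GroupTheory.Solvable
import Mathlib.GroupTheory.Perm.Cycle.Type
import Mathlib.Data.ZMod.Basic

/-!
Linear groups in which every stabiliser of a nontrivial vector is maximal: the characteristic is two and the
minimal normal subgroup is non-abelian with trivial centraliser.
-/

set_option autoImplicit false
set_option linter.unusedSectionVars false
set_option linter.style.haveILetI false

namespace Cfsg.Agent.Perm.ExtPrim

universe u v

/-- a faithful irreducible action with maximal stabilisers, insoluble -/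
structure Mdl (H : Type u) (V : Type v) [Group H] [CommGroup V] where
  ρ : H →* MulAut V
  faith : ∀ h : H, (∀ w, ρ h w = w) → h = 1
  irred : ∀ W : Subgroup V, (∀ h, ∀ w ∈ W, ρ h w ∈ W) → W = ⊥ ∨ W = ⊤
  maxl : ∀ w : V, w ≠ 1 → ∀ K : Subgroup H, (∀ h, ρ h w = w → h ∈ K) → (∀ h ∈ K, ρ h w = w) ∨ K = ⊤
  insol : ¬ Group.IsSolvable H

/-- a minimal element among subgroups with a property -/
theorem exists_min {H : Type u} [Group H] [Finite H] (p : Subgroup H → Prop) (h : ∃ K, p K) :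
    ∃ K, p K ∧ ∀ L, p L → L ≤ K → L = K := by
  classical
  haveI : Nonempty {K // p K} := ⟨⟨h.choose, h.choose_spec⟩⟩
  obtain ⟨⟨K, hK⟩, hmin⟩ := Finite.exists_min fun K : {K // p K} => Nat.card ↥K.1
  exact ⟨K, hK, fun L hL hle => Subgroup.eq_of_le_of_card_ge hle (hmin ⟨L, hL⟩)⟩

namespace Mdl

variable {H : Type u} {V : Type v} [Group H] [CommGroup V] [Finite H] [Finite V] (D : Mdl H V)
include D

theorem rho_mul (g h : H) (w : V) : D.ρ (g * h) w = D.ρ g (D.ρ h w) := by
  rw [map_mul]; rfl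

theorem rho_one (w : V) : D.ρ 1 w = w := by rw [map_one]; rfl

theorem rho_inv (g : H) (w : V) : D.ρ g⁻¹ (D.ρ g w) = w := by rw [← D.rho_mul, inv_mul_cancel, D.rho_one]

theorem rho_inv' (g : H) (w : V) : D.ρ g (D.ρ g⁻¹ w) = w := by rw [← D.rho_mul, mul_inv_cancel, D.rho_one]

/-- the stabiliser -/
def stab (w : V) : Subgroup H where
  carrier := {h | D.ρ h w = w}
  one_mem' := D.rho_one w
  mul_mem' {a b} ha hb := by
    show D.ρ (a * b) w = w
    rw [D.rho_mul, show D.ρ b w = w from hb, show D.ρ a w = w from ha]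
  inv_mem' {a} ha := by
    show D.ρ a⁻¹ w = w
    conv_lhs => rw [← show D.ρ a w = w from ha]
    exact D.rho_inv a w

theorem mem_stab {h : H} {w : V} : h ∈ D.stab w ↔ D.ρ h w = w := Iff.rfl

/-- the vectors fixed by a subgroup -/
def fix (K : Subgroup H) : Subgroup V where
  carrier := {w | ∀ k ∈ K, D.ρ k w = w}
  one_mem' k _ := map_one (D.ρ k)
  mul_mem' {a b} ha hb k hk := by rw [map_mul, ha k hk, hb k hk]
  inv_mem' {a} ha k hk := by rw [map_inv, ha k hk]

theorem mem_fix {K : Subgroup H} {w : V} : w ∈ D.fix K ↔ ∀ k ∈ K, D.ρ k w = w := Iff.rfl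

theorem nontriv : ∃ w : V, w ≠ 1 := by
  by_contra hno
  push Not at hno
  exact D.insol (Group.isSolvable_of_comm fun a b => by
    rw [D.faith a fun w => by rw [hno w, map_one], D.faith b fun w => by rw [hno w, map_one]])

theorem nofix {w : V} (hw : w ≠ 1) : ∃ h, D.ρ h w ≠ w := by
  by_contra hno
  push Not at hno
  rcases D.irred (Subgroup.zpowers w) (fun h x hx => by
    obtain ⟨i, rfl⟩ := Subgroup.mem_zpowers_iff.1 hx
    rw [map_zpow, hno h]; exact hx) with e | e
  · exact hw (Subgroup.zpowers_eq_bot.1 e)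
  · refine D.insol (Group.isSolvable_of_comm fun a b => ?_)
    have h1 : ∀ a, a = (1 : H) := fun a => D.faith a fun x => by
      obtain ⟨i, rfl⟩ := Subgroup.mem_zpowers_iff.1 (e ▸ Subgroup.mem_top x : x ∈ Subgroup.zpowers w)
      rw [map_zpow, hno a]
    rw [h1 a, h1 b]

/-- what fixes a whole orbit is trivial -/
theorem orbit_fix {w : V} (hw : w ≠ 1) {n : H} (hn : ∀ h, D.ρ n (D.ρ h w) = D.ρ h w) : n = 1 := by
  refine D.faith n fun x => ?_
  have hX : ∀ y ∈ Subgroup.closure (Set.range fun h => D.ρ h w), D.ρ n y = y := fun y hy => by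
    induction hy using Subgroup.closure_induction with
    | mem y hy => obtain ⟨h, rfl⟩ := hy; exact hn h
    | one => exact map_one _
    | mul a b _ _ ha hb => rw [map_mul, ha, hb]
    | inv a _ ha => rw [map_inv, ha]
  rcases D.irred (Subgroup.closure (Set.range fun h => D.ρ h w)) (fun h y hy => by
    induction hy using Subgroup.closure_induction with
    | mem y hy =>
      obtain ⟨k, rfl⟩ := hy
      exact Subgroup.subset_closure ⟨h * k, D.rho_mul h k w⟩
    | one => rw [map_one]; exact one_mem _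
    | mul a b _ _ ha hb => rw [map_mul]; exact mul_mem ha hb
    | inv a _ ha => rw [map_inv]; exact inv_mem ha) with e | e
  · exact absurd (Subgroup.mem_bot.1 (e ▸ Subgroup.subset_closure ⟨1, D.rho_one w⟩)) hw
  · exact hX x (e ▸ Subgroup.mem_top x)

/-- a normal subgroup is transitive on every orbit -/
theorem cover {w : V} (hw : w ≠ 1) {N : Subgroup H} [hN : N.Normal] (hne : N ≠ ⊥) (h : H) :
    ∃ n ∈ N, ∃ s, D.ρ s w = w ∧ h = n * s := by
  rcases D.maxl w hw (N ⊔ D.stab w) (fun s hs => Subgroup.mem_sup_right (D.mem_stab.2 hs)) with e | e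
  · exfalso
    rcases D.irred (D.fix N) (fun k x hx n hn => by
      rw [← D.rho_mul, show n * k = k * (k⁻¹ * n * k) by group, D.rho_mul,
        hx _ (by simpa using hN.conj_mem n hn k⁻¹)]) with e1 | e1
    · exact hw (Subgroup.mem_bot.1 (e1 ▸ fun n hn => e n (Subgroup.mem_sup_left hn)))
    · exact hne ((Subgroup.eq_bot_iff_forall N).2 fun n hn =>
        D.faith n fun x => (e1 ▸ Subgroup.mem_top x : x ∈ D.fix N) n hn)
  · have hh : h ∈ ((N ⊔ D.stab w : Subgroup H) : Set H) := SetLike.mem_coe.2 (e ▸ Subgroup.mem_top h)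
    rw [Subgroup.normal_mul, Set.mem_mul] at hh
    obtain ⟨n, hn, s, hs, rfl⟩ := hh
    exact ⟨n, hn, s, hs, rfl⟩

theorem even_card : Even (Nat.card H) := by
  rcases Nat.even_or_odd (Nat.card H) with h | h
  · exact h
  · exact absurd (S0205.result h) D.insol

/-- the characteristic is two -/
theorem char_two {p : ℕ} (hp : p.Prime) (hexp : ∀ w : V, w ^ p = 1) : p = 2 := by
  by_contra hp2
  haveI : Fact (Nat.Prime 2) := ⟨Nat.prime_two⟩
  obtain ⟨t, ht⟩ := exists_prime_orderOf_dvd_card' (G := H) 2 (even_iff_two_dvd.1 D.even_card)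
  have htt : ∀ x, D.ρ t (D.ρ t x) = x := fun x => by
    rw [← D.rho_mul, ← pow_two, ← ht, pow_orderOf_eq_one, D.rho_one]
  obtain ⟨x, hx⟩ : ∃ x, D.ρ t x ≠ x := by
    by_contra hno
    push Not at hno
    rw [D.faith t hno, orderOf_one] at ht
    exact absurd ht (by norm_num)
  obtain ⟨u, hu⟩ : ∃ u, u = D.ρ t x * x⁻¹ := ⟨_, rfl⟩
  have hu1 : u ≠ 1 := fun e => hx (mul_inv_eq_one.1 (hu ▸ e))
  have htu : D.ρ t u = u⁻¹ := by
    rw [hu, map_mul, map_inv, htt, mul_inv_rev, inv_inv]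
  let K : Submonoid H :=
    { carrier := {k : H | D.ρ k u ∈ Subgroup.zpowers u}
      one_mem' := by show D.ρ 1 u ∈ Subgroup.zpowers u; rw [D.rho_one]; exact Subgroup.mem_zpowers u
      mul_mem' := fun {a b} ha hb => by
        show D.ρ (a * b) u ∈ Subgroup.zpowers u
        obtain ⟨i, hi⟩ := Subgroup.mem_zpowers_iff.1 (show D.ρ b u ∈ Subgroup.zpowers u from hb)
        rw [D.rho_mul, ← hi, map_zpow]
        exact Subgroup.zpow_mem _ ha i }
  let K' : Subgroup H :=
    { K with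
      inv_mem' := fun {a} ha => by
        have e : a⁻¹ = a ^ (orderOf a - 1) := inv_eq_of_mul_eq_one_right (by
          rw [← pow_succ', Nat.sub_add_cancel (orderOf_pos a), pow_orderOf_eq_one])
        rw [e]
        exact K.pow_mem ha _ }
  rcases D.maxl u hu1 K' (fun h hh => show D.ρ h u ∈ Subgroup.zpowers u by rw [hh]; exact Subgroup.mem_zpowers u) with e | e
  · have h1 : u⁻¹ = u := htu.symm.trans (e t (show D.ρ t u ∈ Subgroup.zpowers u by rw [htu]; exact inv_mem (Subgroup.mem_zpowers u)))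
    have h2 : u ^ 2 = 1 := by rw [pow_two]; conv_lhs => lhs; rw [← h1]
                              exact inv_mul_cancel u
    have h3 := Nat.dvd_gcd (orderOf_dvd_of_pow_eq_one h2) (orderOf_dvd_of_pow_eq_one (hexp u))
    rw [(Nat.coprime_primes Nat.prime_two hp).2 (Ne.symm hp2), Nat.dvd_one, orderOf_eq_one_iff] at h3
    exact hu1 h3
  · have hin : ∀ k, D.ρ k u ∈ Subgroup.zpowers u := fun k => show k ∈ K' from e ▸ Subgroup.mem_top k
    rcases D.irred (Subgroup.zpowers u) (fun h y hy => by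
      obtain ⟨i, rfl⟩ := Subgroup.mem_zpowers_iff.1 hy
      rw [map_zpow]
      exact Subgroup.zpow_mem _ (hin h) i) with e1 | e1
    · exact hu1 (Subgroup.zpowers_eq_bot.1 e1)
    · refine D.insol (Group.isSolvable_of_comm fun a b => ?_)
      refine inv_mul_eq_one.1 (D.faith ((a * b)⁻¹ * (b * a)) fun y => ?_) |>.symm |>.symm
      obtain ⟨i, hi⟩ := Subgroup.mem_zpowers_iff.1 (hin a)
      obtain ⟨j, hj⟩ := Subgroup.mem_zpowers_iff.1 (hin b)
      obtain ⟨m, rfl⟩ := Subgroup.mem_zpowers_iff.1 (e1 ▸ Subgroup.mem_top y : y ∈ Subgroup.zpowers u)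
      have hab : D.ρ (b * a) u = D.ρ (a * b) u := by
        rw [D.rho_mul, D.rho_mul, ← hi, ← hj, map_zpow, map_zpow, ← hi, ← hj, ← zpow_mul, ← zpow_mul, mul_comm]
      rw [map_zpow, D.rho_mul (a * b)⁻¹, hab, D.rho_inv]

variable (hV : ∀ w : V, w * w = 1)
include hV

theorem inv_eq (w : V) : w⁻¹ = w := inv_eq_of_mul_eq_one_right (hV w)

/-- an involution fixes a nontrivial vector -/
theorem inv_fix {t : H} (ht : t * t = 1) : ∃ w : V, w ≠ 1 ∧ D.ρ t w = w := by
  have htt : ∀ x, D.ρ t (D.ρ t x) = x := fun x => by rw [← D.rho_mul, ht, D.rho_one]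
  obtain ⟨x, hx⟩ := D.nontriv
  by_cases h : D.ρ t x = x
  · exact ⟨x, hx, h⟩
  refine ⟨D.ρ t x * x, fun e => h ?_, by rw [map_mul, htt, mul_comm]⟩
  rw [mul_eq_one_iff_eq_inv.1 e, D.inv_eq hV]

section Norm

variable (r : ℕ) [Fact r.Prime]

/-- the norm along an element -/
noncomputable def Nm (g : H) (w : V) : V := ∏ a : ZMod r, D.ρ (g ^ a.val) w

omit hV in
theorem pow_val {g : H} (hg : g ^ r = 1) (m : ℕ) : g ^ (m : ZMod r).val = g ^ m := by
  rw [ZMod.val_natCast]
  exact (pow_eq_pow_mod m hg).symm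

omit hV in
theorem Nm_fixed {g : H} (hg : g ^ r = 1) (w : V) : D.ρ g (D.Nm r g w) = D.Nm r g w := by
  rw [Nm, map_prod]
  refine Fintype.prod_equiv (Equiv.addRight 1) _ _ fun a => ?_
  rw [← D.rho_mul, ← pow_succ']
  congr 1
  rw [← D.pow_val r hg (a.val + 1), Nat.cast_succ, ZMod.natCast_zmod_val]
  rfl

omit hV in
theorem Nm_pow {g : H} (hg : g ^ r = 1) (w : V) (m : ℕ) : D.ρ (g ^ m) (D.Nm r g w) = D.Nm r g w := by
  induction m with
  | zero => rw [pow_zero, D.rho_one]
  | succ m ih => rw [pow_succ, D.rho_mul, D.Nm_fixed r hg, ih]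

theorem Nm_of_fixed (hr2 : r ≠ 2) {g : H} {w : V} (h : D.ρ g w = w) : D.Nm r g w = w := by
  have hp : ∀ m : ℕ, D.ρ (g ^ m) w = w := fun m => (D.stab w).pow_mem h m
  rw [Nm, Finset.prod_congr rfl fun a _ => hp a.val, Finset.prod_const, Finset.card_univ, ZMod.card]
  obtain ⟨k, hk⟩ := (Fact.out : r.Prime).odd_of_ne_two hr2
  rw [hk, pow_succ, pow_mul, pow_two, hV, one_pow, one_mul]

/-- two commuting elements of odd prime order: if the norm of the first and those of the mixed products vanish,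
the second fixes the vector -/
theorem mixed (hr2 : r ≠ 2) {g n : H} (hg : g ^ r = 1) (hn : n ^ r = 1) (hc : Commute g n) {w : V}
    (hNg : D.Nm r g w = 1) (hmix : ∀ i : ZMod r, i ≠ 0 → D.Nm r (g ^ i.val * n) w = 1) : D.ρ n w = w := by
  classical
  have e1 : ∏ i : ZMod r, D.Nm r (g ^ i.val * n) w = D.Nm r n w := by
    rw [Finset.prod_eq_single (0 : ZMod r) (fun i _ hi => hmix i hi) fun h => absurd (Finset.mem_univ _) h,
      ZMod.val_zero, pow_zero, one_mul]
  have e2 : ∏ i : ZMod r, D.Nm r (g ^ i.val * n) w = w := by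
    simp only [Nm]
    rw [Finset.prod_comm, Finset.prod_eq_single (0 : ZMod r) (fun j _ hj => ?_)
      fun h => absurd (Finset.mem_univ _) h]
    · rw [Finset.prod_congr rfl fun i _ => show D.ρ ((g ^ i.val * n) ^ (0 : ZMod r).val) w = w by
        rw [ZMod.val_zero, pow_zero, D.rho_one], Finset.prod_const, Finset.card_univ, ZMod.card]
      obtain ⟨k, hk⟩ := (Fact.out : r.Prime).odd_of_ne_two hr2
      rw [hk, pow_succ, pow_mul, pow_two, hV, one_pow, one_mul]
    · rw [Finset.prod_congr rfl fun (i : ZMod r) _ => show D.ρ ((g ^ i.val * n) ^ j.val) w =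
        D.ρ (n ^ j.val) (D.ρ (g ^ (i * j).val) w) by
          rw [(hc.pow_left i.val).mul_pow, ← D.rho_mul, ← pow_mul, ← D.pow_val r hg (i.val * j.val), Nat.cast_mul,
            ZMod.natCast_zmod_val, ZMod.natCast_zmod_val, ((hc.pow_pow _ _).symm).eq]]
      rw [← map_prod, Fintype.prod_equiv (Equiv.mulRight₀ j hj) (fun i : ZMod r => D.ρ (g ^ (i * j).val) w)
        (fun a : ZMod r => D.ρ (g ^ a.val) w) fun i => rfl]
      rw [show (∏ a : ZMod r, D.ρ (g ^ a.val) w) = 1 from hNg, map_one]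
  have hw : D.Nm r n w = w := e1.symm.trans e2
  rw [← hw]
  exact D.Nm_fixed r hn w

end Norm

/-- a minimal normal subgroup is not abelian -/
theorem not_comm {N : Subgroup H} [hN : N.Normal] (hne : N ≠ ⊥)
    (hmin : ∀ K : Subgroup H, K.Normal → K ≤ N → K = ⊥ ∨ K = N) (hcomm : ∀ a ∈ N, ∀ b ∈ N, a * b = b * a) : False := by
  classical
  have semi : ∀ n ∈ N, ∀ w, w ≠ 1 → D.ρ n w = w → n = 1 := fun n hn w hw hf => D.orbit_fix hw fun h => by
    obtain ⟨m, hm, s, hs, rfl⟩ := D.cover hw hne h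
    rw [D.rho_mul m s, hs, ← D.rho_mul, hcomm n hn m hm, D.rho_mul, hf]
  obtain ⟨w0, hw0⟩ := D.nontriv
  have cN : ∀ c, (∀ n ∈ N, c * n = n * c) → c ∈ N := fun c hc => by
    obtain ⟨n, hn, s, hs, e⟩ := D.cover hw0 hne c
    have hs1 : s = 1 := D.orbit_fix hw0 fun h => by
      obtain ⟨m, hm, s', hs', rfl⟩ := D.cover hw0 hne h
      have hsm : s * m = m * s := by
        rw [show s = n⁻¹ * c by rw [e, inv_mul_cancel_left], mul_assoc, hc m hm, ← mul_assoc, ← mul_assoc,
          hcomm n⁻¹ (inv_mem hn) m hm]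
      rw [D.rho_mul m s', hs', ← D.rho_mul, hsm, D.rho_mul, hs]
    rw [e, hs1, mul_one]; exact hn
  have hcard : Nat.card N ≠ 1 := fun e => hne (Subgroup.card_eq_one.1 e)
  obtain ⟨r, hr, hdvd⟩ := Nat.exists_prime_and_dvd hcard
  haveI : Fact r.Prime := ⟨hr⟩
  obtain ⟨⟨g, hgN⟩, hg⟩ := exists_prime_orderOf_dvd_card' (G := ↥N) r hdvd
  rw [← Subgroup.orderOf_coe] at hg
  have hgr : g ^ r = 1 := hg ▸ pow_orderOf_eq_one g
  have hg1 : g ≠ 1 := fun e => hr.one_lt.ne' (by rw [← hg]; simp [e])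
  have hr2 : r ≠ 2 := fun e => by
    obtain ⟨w, hw, hf⟩ := D.inv_fix hV (t := g) (by rw [← pow_two, ← e]; exact hgr)
    exact hg1 (semi g hgN w hw hf)
  let E : Subgroup H :=
    { carrier := {n | n ∈ N ∧ n ^ r = 1}
      one_mem' := ⟨one_mem _, one_pow _⟩
      mul_mem' := fun {a b} ha hb => ⟨mul_mem ha.1 hb.1, by
        rw [(show Commute a b from hcomm a ha.1 b hb.1).mul_pow, ha.2, hb.2, one_mul]⟩
      inv_mem' := fun {a} ha => ⟨inv_mem ha.1, by rw [inv_pow, ha.2, inv_one]⟩ }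
  have hE : E = N := by
    refine (hmin E ⟨fun n hn k => ⟨hN.conj_mem n hn.1 k, by rw [conj_pow, hn.2]; simp⟩⟩ fun n hn => hn.1).resolve_left
      fun e => hg1 (Subgroup.mem_bot.1 (e ▸ (show g ∈ E from ⟨hgN, hgr⟩)))
  have hcyc : ∀ n ∈ N, n ∈ Subgroup.zpowers g := fun n hn => by
    by_contra hnz
    have hnr : n ^ r = 1 := ((show n ∈ E from hE ▸ hn)).2
    have hfix : ∀ k ∈ N, k ≠ 1 → k ^ r = 1 → ∀ w, D.Nm r k w = 1 := fun k hk hk1 hkr w => by
      by_contra hne1
      exact hk1 (semi k hk _ hne1 (D.Nm_fixed r hkr w))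
    have hn1 : n ≠ 1 := fun e => hnz (e ▸ one_mem _)
    refine hn1 (semi n hn w0 hw0 (D.mixed hV r hr2 hgr hnr (hcomm g hgN n hn) (hfix g hgN hg1 hgr w0) fun i _ => ?_))
    refine hfix _ (mul_mem (pow_mem hgN _) hn) (fun e => hnz ?_) ?_ w0
    · rw [eq_inv_of_mul_eq_one_right e]
      exact inv_mem (pow_mem (Subgroup.mem_zpowers g) _)
    · rw [((show Commute g n from hcomm g hgN n hn).pow_left _).mul_pow, hnr, ← pow_mul, mul_comm, pow_mul, hgr,
        one_pow, one_mul]
  refine D.insol ?_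
  haveI : Group.IsSolvable ↥N := Group.isSolvable_of_comm fun a b => Subtype.ext (hcomm a a.2 b b.2)
  haveI : Group.IsSolvable (H ⧸ N) := Group.isSolvable_of_comm fun a b => by
    obtain ⟨a, rfl⟩ := QuotientGroup.mk_surjective a
    obtain ⟨b, rfl⟩ := QuotientGroup.mk_surjective b
    show ((a * b : H) : H ⧸ N) = ((b * a : H) : H ⧸ N)
    rw [QuotientGroup.eq]
    refine cN _ fun n hn => ?_
    obtain ⟨i, rfl⟩ := Subgroup.mem_zpowers_iff.1 (hcyc n hn)
    obtain ⟨ia, hia⟩ := Subgroup.mem_zpowers_iff.1 (hcyc _ (hN.conj_mem g hgN a))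
    obtain ⟨ib, hib⟩ := Subgroup.mem_zpowers_iff.1 (hcyc _ (hN.conj_mem g hgN b))
    have hab : (a * b) * g * (a * b)⁻¹ = (b * a) * g * (b * a)⁻¹ := by
      rw [show a * b * g * (a * b)⁻¹ = a * (b * g * b⁻¹) * a⁻¹ by group, ← hib, ← conj_zpow, ← hia,
        show b * a * g * (b * a)⁻¹ = b * (a * g * a⁻¹) * b⁻¹ by group, ← hia, ← conj_zpow, ← hib, ← zpow_mul,
        ← zpow_mul, mul_comm]
    refine (Commute.zpow_right ?_ i).eq
    calc (a * b)⁻¹ * (b * a) * g = (a * b)⁻¹ * (b * a * g * (b * a)⁻¹) * (b * a) := by group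
      _ = g * ((a * b)⁻¹ * (b * a)) := by rw [← hab]; group
  exact Group.isSolvable_of_ker_le_range N.subtype (QuotientGroup.mk' N) (by
    rw [QuotientGroup.ker_mk', Subgroup.range_subtype])

/-- a minimal normal subgroup has even order and trivial centraliser -/
theorem min_normal {N : Subgroup H} [hN : N.Normal] (hne : N ≠ ⊥)
    (hmin : ∀ K : Subgroup H, K.Normal → K ≤ N → K = ⊥ ∨ K = N) :
    Even (Nat.card N) ∧ Subgroup.centralizer (N : Set H) = ⊥ := by
  have hev : Even (Nat.card N) := by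
    rcases Nat.even_or_odd (Nat.card N) with h | h
    · exact h
    exfalso
    haveI : Group.IsSolvable ↥N := S0205.result h
    haveI := (Subgroup.nontrivial_iff_ne_bot N).2 hne
    rcases hmin ⁅N, N⁆ inferInstance (Subgroup.commutator_le_self N) with e | e
    · refine D.not_comm hV hne hmin fun a ha b hb => ?_
      exact commutatorElement_eq_one_iff_mul_comm.1 (Subgroup.mem_bot.1 (e ▸ Subgroup.commutator_mem_commutator ha hb))
    · refine ne_of_lt ?_ e
      rw [← N.range_subtype, MonoidHom.range_eq_map, ← Subgroup.map_commutator, Subgroup.map_subtype_lt_map_subtype]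
      exact Group.IsSolvable.commutator_lt_top_of_nontrivial ↥N
  refine ⟨hev, ?_⟩
  by_contra hC
  haveI : Fact (Nat.Prime 2) := ⟨Nat.prime_two⟩
  obtain ⟨⟨n, hn⟩, ho⟩ := exists_prime_orderOf_dvd_card' (G := ↥N) 2 (even_iff_two_dvd.1 hev)
  rw [← Subgroup.orderOf_coe] at ho
  obtain ⟨w, hw, hf⟩ := D.inv_fix hV (t := n) (by
    have e := pow_orderOf_eq_one n
    rw [ho, pow_two] at e
    exact e)
  have h1 : n = 1 := D.orbit_fix hw fun h => by
    obtain ⟨c, hc, s, hs, rfl⟩ := D.cover hw hC h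
    rw [D.rho_mul c s, hs, ← D.rho_mul, Subgroup.mem_centralizer_iff.1 hc n hn, D.rho_mul, hf]
  subst h1
  simp at ho

end Mdl

end Cfsg.Agent.Perm.ExtPrim
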