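import Cfsg.Agent.Lib.Perm.ExtremelyPrimitive.Basic
import Cfsg.Agent.S1225
import Cfsg.Agent.S0215
import Mathlib.GroupTheory.Sylow
import Mathlib.GroupTheory.PGroup

/-!
The minimal normal subgroup of an insoluble linear group with maximal vector stabilisers, in characteristic
two, is simple.
-/

set_option autoImplicit false
set_option linter.unusedSectionVars false
set_option linter.style.haveILetI false

namespace Cfsg.Agent.Perm.ExtPrim

universe u v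

/-- a minimal normal subgroup with a proper simple factor -/
structure Fac {H : Type u} {V : Type v} [Group H] [CommGroup V] (D : Mdl H V) where
  N : Subgroup H
  nrm : N.Normal
  nmin : ∀ K : Subgroup H, K.Normal → K ≤ N → K = ⊥ ∨ K = N
  cent : Subgroup.centralizer (N : Set H) = ⊥
  T : Subgroup H
  tN : T ≤ N
  tne : T ≠ ⊥
  tnorm : ∀ n ∈ N, ∀ x ∈ T, n * x * n⁻¹ ∈ T
  tmin : ∀ K : Subgroup H, K ≤ T → (∀ n ∈ N, ∀ x ∈ K, n * x * n⁻¹ ∈ K) → K = ⊥ ∨ K = T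
  proper : T ≠ N
  two : ∀ w : V, w * w = 1

namespace Fac

variable {H : Type u} {V : Type v} [Group H] [CommGroup V] [Finite H] [Finite V] {D : Mdl H V} (F : Fac D)
include F

/-- a conjugate of the factor -/
def cj (h : H) : Subgroup H := F.T.comap (MulAut.conj h⁻¹).toMonoidHom

theorem mem_cj {h x : H} : x ∈ F.cj h ↔ h⁻¹ * x * h ∈ F.T := by
  simp [cj, MulAut.conj_apply]

theorem cj_one : F.cj 1 = F.T := Subgroup.ext fun x => by simp [F.mem_cj]

theorem cj_le (h : H) : F.cj h ≤ F.N := fun x hx => by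
  have := F.nrm.conj_mem _ (F.tN (F.mem_cj.1 hx)) h
  simpa [mul_assoc] using this

theorem cj_norm {h n x : H} (hn : n ∈ F.N) (hx : x ∈ F.cj h) : n * x * n⁻¹ ∈ F.cj h := by
  have hn' : h⁻¹ * n * h ∈ F.N := by simpa using F.nrm.conj_mem n hn h⁻¹
  rw [F.mem_cj] at hx ⊢
  have := F.tnorm _ hn' _ hx
  simpa [mul_assoc] using this

theorem cj_min {h : H} {K : Subgroup H} (hle : K ≤ F.cj h) (hK : ∀ n ∈ F.N, ∀ x ∈ K, n * x * n⁻¹ ∈ K) :
    K = ⊥ ∨ K = F.cj h := by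
  rcases F.tmin (K.comap (MulAut.conj h).toMonoidHom) (fun x hx => by
      have := F.mem_cj.1 (hle (show h * x * h⁻¹ ∈ K from hx))
      simpa [mul_assoc] using this) (fun n hn x hx => by
      show h * (n * x * n⁻¹) * h⁻¹ ∈ K
      have := hK _ (F.nrm.conj_mem n hn h) _ (show h * x * h⁻¹ ∈ K from hx)
      simpa [mul_assoc] using this) with e | e
  · refine Or.inl ((Subgroup.eq_bot_iff_forall K).2 fun x hx => ?_)
    have hx' : h⁻¹ * x * h ∈ (⊥ : Subgroup H) := by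
      rw [← e]; show h * (h⁻¹ * x * h) * h⁻¹ ∈ K
      simpa [mul_assoc] using hx
    rw [Subgroup.mem_bot, mul_eq_one_iff_eq_inv, inv_mul_eq_iff_eq_mul, mul_inv_cancel] at hx'
    exact hx'
  · refine Or.inr (le_antisymm hle fun x hx => ?_)
    have hx' : h⁻¹ * x * h ∈ K.comap (MulAut.conj h).toMonoidHom := e ▸ F.mem_cj.1 hx
    have : h * (h⁻¹ * x * h) * h⁻¹ ∈ K := hx'
    simpa [mul_assoc] using this

theorem cj_ne_bot (h : H) : F.cj h ≠ ⊥ := fun e => F.tne ((Subgroup.eq_bot_iff_forall _).2 fun x hx => by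
  have h1 : h * x * h⁻¹ ∈ F.cj h := F.mem_cj.2 (by simpa [mul_assoc] using hx)
  rw [e, Subgroup.mem_bot] at h1
  exact conj_eq_one_iff.1 h1)

theorem cj_comm {h k : H} (hne : F.cj h ≠ F.cj k) {a b : H} (ha : a ∈ F.cj h) (hb : b ∈ F.cj k) :
    a * b = b * a := by
  have hbot : F.cj h ⊓ F.cj k = ⊥ := by
    refine (F.cj_min inf_le_left fun n hn x hx => ⟨F.cj_norm hn hx.1, F.cj_norm hn hx.2⟩).resolve_right fun e => ?_
    rcases F.cj_min (e ▸ inf_le_right : F.cj h ≤ F.cj k) (fun n hn x hx => F.cj_norm hn hx) with e1 | e1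
    · exact F.cj_ne_bot h e1
    · exact hne e1
  have h1 : a * b * a⁻¹ * b⁻¹ ∈ F.cj h ⊓ F.cj k := by
    refine ⟨?_, show a * b * a⁻¹ * b⁻¹ ∈ F.cj k from mul_mem (F.cj_norm (F.cj_le h ha) hb) (inv_mem hb)⟩
    show a * b * a⁻¹ * b⁻¹ ∈ F.cj h
    have := mul_mem ha (F.cj_norm (F.cj_le k hb) (inv_mem ha))
    simpa [mul_assoc] using this
  rw [hbot, Subgroup.mem_bot, mul_inv_eq_one, mul_inv_eq_iff_eq_mul] at h1
  exact h1

/-- the minimal normal subgroup is a factor times its centraliser -/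
theorem split (h : H) {n : H} (hn : n ∈ F.N) :
    ∃ t ∈ F.cj h, ∃ c, (∀ a ∈ F.cj h, a * c = c * a) ∧ n = t * c := by
  let C := Subgroup.centralizer (F.cj h : Set H)
  let S : Subgroup H :=
    { carrier := {x | ∃ t ∈ F.cj h, ∃ c ∈ C, x = t * c}
      one_mem' := ⟨1, one_mem _, 1, one_mem _, (one_mul 1).symm⟩
      mul_mem' := fun {x y} ⟨t, ht, c, hc, ex⟩ ⟨t', ht', c', hc', ey⟩ => ⟨t * t', mul_mem ht ht', c * c',
        mul_mem hc hc', by
          subst ex ey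
          rw [mul_assoc, ← mul_assoc c, ← Subgroup.mem_centralizer_iff.1 hc t' ht', mul_assoc, mul_assoc]⟩
      inv_mem' := fun {x} ⟨t, ht, c, hc, ex⟩ => ⟨t⁻¹, inv_mem ht, c⁻¹, inv_mem hc, by
        subst ex
        rw [mul_inv_rev, ← Subgroup.mem_centralizer_iff.1 (inv_mem hc) t⁻¹ (inv_mem ht)]⟩ }
  have hle : Subgroup.normalClosure (F.T : Set H) ≤ S := by
    refine (Subgroup.closure_le S).2 fun x hx => ?_
    obtain ⟨a, ha, hax⟩ := Group.mem_conjugatesOfSet_iff.1 hx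
    obtain ⟨k, rfl⟩ := isConj_iff.1 hax
    have hk : k * a * k⁻¹ ∈ F.cj k := F.mem_cj.2 (by simpa [mul_assoc] using ha)
    rcases eq_or_ne (F.cj h) (F.cj k) with e | e
    · exact ⟨_, e ▸ hk, 1, one_mem _, (mul_one _).symm⟩
    · exact ⟨1, one_mem _, _, Subgroup.mem_centralizer_iff.2 fun b hb => F.cj_comm e hb hk, (one_mul _).symm⟩
  haveI := F.nrm
  have hN : Subgroup.normalClosure (F.T : Set H) = F.N :=
    (F.nmin _ Subgroup.normalClosure_normal (Subgroup.normalClosure_le_normal F.tN)).resolve_left fun e =>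
      F.tne (le_bot_iff.1 (e ▸ Subgroup.le_normalClosure))
  obtain ⟨t, ht, c, hc, e⟩ := hle (hN ▸ hn)
  exact ⟨t, ht, c, fun a ha => Subgroup.mem_centralizer_iff.1 hc a ha, e⟩

/-- every factor is simple -/
theorem simple (h : H) {X : Subgroup H} (hle : X ≤ F.cj h) (hX : ∀ b ∈ F.cj h, ∀ x ∈ X, b * x * b⁻¹ ∈ X) :
    X = ⊥ ∨ X = F.cj h := by
  refine F.cj_min hle fun n hn x hx => ?_
  obtain ⟨t, ht, c, hc, rfl⟩ := F.split h hn
  rw [show t * c * x * (t * c)⁻¹ = t * (c * x * c⁻¹) * t⁻¹ by group, ← hc x (hle hx), mul_inv_cancel_right]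
  exact hX t ht x hx

theorem simpleT {X : Subgroup H} (hle : X ≤ F.T) (hX : ∀ b ∈ F.T, ∀ x ∈ X, b * x * b⁻¹ ∈ X) :
    X = ⊥ ∨ X = F.T := by
  have := F.simple 1 (X := X) (by rwa [F.cj_one]) (by rwa [F.cj_one])
  rwa [F.cj_one] at this

theorem even_card : Even (Nat.card F.T) := by
  rcases Nat.even_or_odd (Nat.card F.T) with h | h
  · exact h
  exfalso
  haveI : Group.IsSolvable ↥F.T := S0205.result h
  haveI := (Subgroup.nontrivial_iff_ne_bot F.T).2 F.tne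
  rcases F.simpleT (Subgroup.commutator_le_self F.T) (fun b hb x hx => by
      have hle : (⁅F.T, F.T⁆ : Subgroup H).map (MulAut.conj b).toMonoidHom ≤ ⁅F.T, F.T⁆ := by
        rw [Subgroup.map_commutator]
        have hb' : F.T.map (MulAut.conj b).toMonoidHom ≤ F.T := fun y hy => by
          obtain ⟨z, hz, rfl⟩ := Subgroup.mem_map.1 hy
          exact mul_mem (mul_mem hb hz) (inv_mem hb)
        exact Subgroup.commutator_mono hb' hb'
      exact hle ⟨x, hx, rfl⟩) with e | e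
  · refine F.tne (le_bot_iff.1 ?_)
    rw [← F.cent]
    refine fun a ha => Subgroup.mem_centralizer_iff.2 fun n hn => ?_
    obtain ⟨t, ht, c, hc, rfl⟩ := F.split 1 hn
    rw [F.cj_one] at ht hc
    have h1 : t * a = a * t :=
      commutatorElement_eq_one_iff_mul_comm.1 (Subgroup.mem_bot.1 (e ▸ Subgroup.commutator_mem_commutator ht ha))
    rw [mul_assoc, ← hc a ha, ← mul_assoc, h1, mul_assoc]
  · refine ne_of_lt ?_ e
    rw [← F.T.range_subtype, MonoidHom.range_eq_map, ← Subgroup.map_commutator, Subgroup.map_subtype_lt_map_subtype]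
    exact Group.IsSolvable.commutator_lt_top_of_nontrivial ↥F.T

theorem exists_other : ∃ h, F.cj h ≠ F.T := by
  by_contra hno
  push Not at hno
  exact F.proper ((F.nmin F.T ⟨fun x hx h => by
    rw [← hno h, F.mem_cj]; simpa [mul_assoc] using hx⟩ F.tN).resolve_left F.tne)

/-- no vector is fixed by a whole factor -/
theorem nofix (h : H) {w : V} (hw : w ≠ 1) (hfix : ∀ a ∈ F.cj h, D.ρ a w = w) : False := by
  haveI := F.nrm
  have hNne : F.N ≠ ⊥ := fun e => F.tne (le_bot_iff.1 (e ▸ F.tN))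
  refine F.cj_ne_bot h ((Subgroup.eq_bot_iff_forall _).2 fun a ha => D.orbit_fix hw fun k => ?_)
  obtain ⟨n, hn, s, hs, rfl⟩ := D.cover hw hNne k
  rw [D.rho_mul n s, hs, ← D.rho_mul, show a * n = n * (n⁻¹ * a * n) by group, D.rho_mul,
    hfix _ (by simpa using F.cj_norm (inv_mem hn) ha)]

/-- projection of a fixed product onto the factor -/
theorem prod_fix {w : V} {a g n : H} (ha : a ∈ F.T) (ha1 : a ≠ 1) (haw : D.ρ a w = w) (hg : g ∈ F.T)
    (hcomm : ∀ x ∈ F.T, n * x = x * n) (hgn : D.ρ (g * n) w = w) : D.ρ g w = w := by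
  rcases eq_or_ne w 1 with rfl | hw
  · exact map_one _
  have hgA : ∀ x ∈ F.T, D.ρ x w = w → D.ρ (g * x * g⁻¹) w = w := fun x hx hxw => by
    rw [show g * x * g⁻¹ = (g * n) * x * (g * n)⁻¹ by
      rw [show g * n * x * (g * n)⁻¹ = g * (n * x * n⁻¹) * g⁻¹ by group, hcomm x hx, mul_inv_cancel_right]]
    exact D.mem_stab.1 (mul_mem (mul_mem (D.mem_stab.2 hgn) (D.mem_stab.2 hxw)) (inv_mem (D.mem_stab.2 hgn)))
  let S : Set H := {t | ∃ h, t ∈ F.cj h ∧ ∀ x ∈ F.cj h, D.ρ x w = w → D.ρ (t * x * t⁻¹) w = w}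
  have hJN : Subgroup.closure S ≤ F.N := (Subgroup.closure_le _).2 fun t ⟨h, ht, _⟩ => F.cj_le h ht
  have hJP : ∀ t ∈ Subgroup.closure S, ∀ h, ∀ x ∈ F.cj h, D.ρ x w = w → D.ρ (t * x * t⁻¹) w = w := by
    let P : Submonoid H :=
      { carrier := {t | t ∈ F.N ∧ ∀ h, ∀ x ∈ F.cj h, D.ρ x w = w → D.ρ (t * x * t⁻¹) w = w}
        one_mem' := ⟨one_mem _, fun h x _ hxw => by simpa using hxw⟩
        mul_mem' := fun {s t} hs ht => ⟨mul_mem hs.1 ht.1, fun h x hx hxw => by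
          rw [show s * t * x * (s * t)⁻¹ = s * (t * x * t⁻¹) * s⁻¹ by group]
          exact hs.2 h _ (F.cj_norm ht.1 hx) (ht.2 h x hx hxw)⟩ }
    have hSP : S ⊆ P := fun t ⟨h, ht, hP⟩ => ⟨F.cj_le h ht, fun k x hx hxw => by
      rcases eq_or_ne (F.cj h) (F.cj k) with e | e
      · exact hP x (e ▸ hx) hxw
      · rw [F.cj_comm e ht hx, mul_inv_cancel_right]; exact hxw⟩
    let P' : Subgroup H :=
      { P with
        inv_mem' := fun {t} ht => by
          have e : t⁻¹ = t ^ (orderOf t - 1) := inv_eq_of_mul_eq_one_right (by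
            rw [← pow_succ', Nat.sub_add_cancel (orderOf_pos t), pow_orderOf_eq_one])
          rw [e]
          exact P.pow_mem ht _ }
    exact fun t ht => (((Subgroup.closure_le P').2 hSP) ht).2
  have hnorm : ∀ s, D.ρ s w = w → ∀ j ∈ Subgroup.closure S, s * j * s⁻¹ ∈ Subgroup.closure S := fun s hs j hj => by
    induction hj using Subgroup.closure_induction with
    | mem t ht =>
      obtain ⟨h, ht, hP⟩ := ht
      refine Subgroup.subset_closure ⟨s * h, F.mem_cj.2 (by simpa [mul_assoc] using F.mem_cj.1 ht), fun x hx hxw => ?_⟩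
      have hs' := D.mem_stab.2 hs
      have h1 := hP (s⁻¹ * x * s) (F.mem_cj.2 (by simpa [mul_assoc] using F.mem_cj.1 hx))
        (D.mem_stab.1 (mul_mem (mul_mem (inv_mem hs') (D.mem_stab.2 hxw)) hs'))
      rw [show s * t * s⁻¹ * x * (s * t * s⁻¹)⁻¹ = s * (t * (s⁻¹ * x * s) * t⁻¹) * s⁻¹ by group]
      exact D.mem_stab.1 (mul_mem (mul_mem hs' (D.mem_stab.2 h1)) (inv_mem hs'))
    | one => simp
    | mul a b _ _ iha ihb =>
      rw [show s * (a * b) * s⁻¹ = (s * a * s⁻¹) * (s * b * s⁻¹) by group]; exact mul_mem iha ihb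
    | inv a _ iha => rw [show s * a⁻¹ * s⁻¹ = (s * a * s⁻¹)⁻¹ by group]; exact inv_mem iha
  let K : Subgroup H :=
    { carrier := {x | ∃ j ∈ Subgroup.closure S, ∃ s, D.ρ s w = w ∧ x = j * s}
      one_mem' := ⟨1, one_mem _, 1, D.rho_one w, (one_mul 1).symm⟩
      mul_mem' := fun {x y} ⟨j, hj, s, hs, ex⟩ ⟨j', hj', s', hs', ey⟩ => ⟨j * (s * j' * s⁻¹),
        mul_mem hj (hnorm s hs j' hj'), s * s', by rw [D.rho_mul, hs', hs], by subst ex ey; group⟩
      inv_mem' := fun {x} ⟨j, hj, s, hs, ex⟩ =>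
        have hs' : D.ρ s⁻¹ w = w := D.mem_stab.1 (inv_mem (D.mem_stab.2 hs))
        ⟨s⁻¹ * j⁻¹ * s⁻¹⁻¹, hnorm _ hs' _ (inv_mem hj), s⁻¹, hs', by subst ex; group⟩ }
  rcases D.maxl w hw K (fun s hs => ⟨1, one_mem _, s, hs, (one_mul s).symm⟩) with e | e
  · refine e g ⟨g, Subgroup.subset_closure ⟨1, ?_, ?_⟩, 1, D.rho_one w, (mul_one g).symm⟩
    · rwa [F.cj_one]
    · rw [F.cj_one]; exact hgA
  · exfalso
    let A : Subgroup H := F.T ⊓ D.stab w
    have hA : ∀ k ∈ F.N, ∀ x ∈ A, k * x * k⁻¹ ∈ A := fun k hk x hx => by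
      obtain ⟨j, hj, s, hs, rfl⟩ := (show k ∈ K from e ▸ Subgroup.mem_top k)
      have hsN : s ∈ F.N := by simpa using mul_mem (inv_mem (hJN hj)) hk
      refine ⟨F.tnorm _ hk x hx.1, ?_⟩
      rw [show j * s * x * (j * s)⁻¹ = j * (s * x * s⁻¹) * j⁻¹ by group]
      refine hJP j hj 1 _ ?_ (D.mem_stab.1 (mul_mem (mul_mem (D.mem_stab.2 hs) hx.2) (inv_mem (D.mem_stab.2 hs))))
      rw [F.cj_one]; exact F.tnorm s hsN x hx.1
    rcases F.tmin A inf_le_left hA with e1 | e1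
    · exact ha1 (Subgroup.mem_bot.1 (e1 ▸ (show a ∈ A from ⟨ha, haw⟩)))
    · refine F.nofix 1 hw fun b hb => ?_
      rw [F.cj_one] at hb
      exact ((show b ∈ A from e1.symm ▸ hb)).2

/-- a subgroup acting on a set of vectors by which one nontrivial element of a factor is the identity -/
theorem kill {h : H} {Y : Set V} (hY : ∀ b ∈ F.cj h, ∀ y ∈ Y, D.ρ b y ∈ Y) {n : H} (hn : n ∈ F.cj h)
    (hn1 : n ≠ 1) (hfix : ∀ y ∈ Y, D.ρ n y = y) : ∀ y ∈ Y, y = 1 := by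
  let Q : Subgroup H :=
    { carrier := {b | b ∈ F.cj h ∧ ∀ y ∈ Y, D.ρ b y = y}
      one_mem' := ⟨one_mem _, fun y _ => D.rho_one y⟩
      mul_mem' := fun {a b} ha hb => ⟨mul_mem ha.1 hb.1, fun y hy => by rw [D.rho_mul, hb.2 y hy, ha.2 y hy]⟩
      inv_mem' := fun {a} ha => ⟨inv_mem ha.1, fun y hy => D.mem_stab.1 (inv_mem (D.mem_stab.2 (ha.2 y hy)))⟩ }
  rcases F.simple h (X := Q) (fun b hb => hb.1) (fun b hb q hq => ⟨mul_mem (mul_mem hb hq.1) (inv_mem hb),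
      fun y hy => by
        rw [D.rho_mul, D.rho_mul, hq.2 _ (hY _ (inv_mem hb) y hy), D.rho_inv']⟩) with e | e
  · exact absurd (Subgroup.mem_bot.1 (e ▸ (show n ∈ Q from ⟨hn, hfix⟩))) hn1
  · intro y hy
    by_contra hy1
    exact F.nofix h hy1 fun b hb => ((show b ∈ Q from e.symm ▸ hb)).2 y hy

/-- an element of prime order normalising a nontrivial subgroup of a factor fixes its fixed vectors -/
theorem fix_of_norm {X : Subgroup H} (hX : X ≤ F.T) {a : H} (ha : a ∈ X) (ha1 : a ≠ 1) {r : ℕ} [Fact r.Prime]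
    {g : H} (hg : g ∈ F.T) (hgr : g ^ r = 1) (hnorm : ∀ x ∈ X, g⁻¹ * x * g ∈ X) :
    ∀ w ∈ D.fix X, D.ρ g w = w := by
  rcases eq_or_ne g 1 with rfl | hg1
  · exact fun w _ => D.rho_one w
  obtain ⟨h, hh⟩ := F.exists_other
  obtain ⟨n, hn⟩ : ∃ n, n = h * g * h⁻¹ := ⟨_, rfl⟩
  have hncj : n ∈ F.cj h := F.mem_cj.2 (by simpa [hn, mul_assoc] using hg)
  have hcm : ∀ b ∈ F.cj h, ∀ x ∈ F.T, b * x = x * b := fun b hb x hx =>
    F.cj_comm (by rwa [F.cj_one]) hb (show x ∈ F.cj 1 by rwa [F.cj_one])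
  have hnr : n ^ r = 1 := by rw [hn, conj_pow, hgr]; group
  have hn1 : n ≠ 1 := fun e => hg1 (conj_eq_one_iff.1 (hn ▸ e))
  have hpres : ∀ b, (∀ x ∈ X, b⁻¹ * x * b ∈ X) → ∀ v ∈ D.fix X, D.ρ b v ∈ D.fix X := fun b hb v hv x hx => by
    rw [← D.rho_mul, show x * b = b * (b⁻¹ * x * b) by group, D.rho_mul, hv _ (hb x hx)]
  have hbX : ∀ b ∈ F.cj h, ∀ x ∈ X, b⁻¹ * x * b ∈ X := fun b hb x hx => by
    rwa [mul_assoc, ← hcm b hb x (hX hx), inv_mul_cancel_left]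
  have hgX : ∀ i : ℕ, ∀ v ∈ D.fix X, D.ρ (g ^ i) v ∈ D.fix X := by
    intro i
    induction i with
    | zero => intro v hv; rwa [pow_zero, D.rho_one]
    | succ i ih => intro v hv; rw [pow_succ, D.rho_mul]; exact ih _ (hpres g hnorm v hv)
  have hgn : Commute g n := (hcm n hncj g hg).symm
  rcases eq_or_ne r 2 with rfl | hr2
  · rw [pow_two] at hgr hnr
    have hk := F.kill (h := h) (Y := {y | ∃ v ∈ D.fix X, y = D.ρ g v * v}) (fun b hb y ⟨v, hv, e⟩ =>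
      ⟨D.ρ b v, hpres b (hbX b hb) v hv, by rw [e, map_mul, ← D.rho_mul, hcm b hb g hg, D.rho_mul]⟩) hncj hn1 ?_
    · intro v hv
      have h1 := hk _ ⟨v, hv, rfl⟩
      rwa [mul_eq_one_iff_eq_inv, D.inv_eq F.two] at h1
    rintro y ⟨v, hv, rfl⟩
    have hm : D.ρ n v * D.ρ g v ∈ D.fix X := mul_mem (hpres n (hbX n hncj) v hv) (hpres g hnorm v hv)
    have hfx : D.ρ (g * n) (D.ρ n v * D.ρ g v) = D.ρ n v * D.ρ g v := by
      rw [map_mul, ← D.rho_mul, ← D.rho_mul, mul_assoc, hnr, mul_one, mul_assoc, ← hgn.eq, ← mul_assoc g g n, hgr,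
        one_mul, mul_comm]
    have h2 := F.prod_fix (hX ha) ha1 (hm a ha) hg (hcm n hncj) hfx
    rw [map_mul, ← D.rho_mul, ← D.rho_mul, hgr, D.rho_one] at h2
    rw [map_mul, ← D.rho_mul, ← hgn.eq]
    have h3 : D.ρ (g * n) v = D.ρ n v * D.ρ g v * v := by
      rw [← h2, mul_assoc, F.two, mul_one]
    rw [h3, mul_comm, ← mul_assoc, ← mul_assoc, F.two, one_mul]
  · have hW : ∀ v ∈ D.fix X, D.Nm r g v = 1 → D.ρ n v = v := fun v hv hv0 => by
      refine D.mixed F.two r hr2 hgr hnr hgn hv0 fun i hi => ?_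
      have hb : (g ^ i.val * n) ^ r = 1 := by
        rw [(hgn.pow_left _).mul_pow, hnr, ← pow_mul, mul_comm, pow_mul, hgr, one_pow, one_mul]
      have hbg : ∀ k : ℕ, Commute ((g ^ i.val * n) ^ k) g :=
        fun k => (((Commute.refl g).pow_left _).mul_left hgn.symm).pow_left k
      obtain ⟨m, hm⟩ : ∃ m, m = D.Nm r (g ^ i.val * n) v := ⟨_, rfl⟩
      rw [← hm]
      have hmX : m ∈ D.fix X := by
        rw [hm]
        refine Subgroup.prod_mem _ fun c _ => ?_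
        rw [(hgn.pow_left _).mul_pow, D.rho_mul, ← pow_mul]
        exact hgX _ _ (hpres _ (hbX _ (pow_mem hncj _)) v hv)
      have h1 : D.ρ (g ^ i.val) m = m :=
        F.prod_fix (hX ha) ha1 (hmX a ha) (pow_mem hg _) (hcm n hncj) (hm ▸ D.Nm_fixed r hb v)
      have h2 : D.ρ g m = m := by
        have h3 := (D.stab m).pow_mem h1 (i⁻¹).val
        rw [← pow_mul, ← D.pow_val r hgr, Nat.cast_mul, ZMod.natCast_zmod_val, ZMod.natCast_zmod_val,
          mul_inv_cancel₀ hi, ZMod.val_one, pow_one] at h3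
        exact h3
      rw [← D.Nm_of_fixed F.two r hr2 h2, hm]
      simp only [Mdl.Nm, map_prod]
      rw [Finset.prod_comm, Finset.prod_eq_one]
      intro c _
      rw [Finset.prod_congr rfl fun a _ => show D.ρ (g ^ a.val) (D.ρ ((g ^ i.val * n) ^ c.val) v) =
        D.ρ ((g ^ i.val * n) ^ c.val) (D.ρ (g ^ a.val) v) by
          rw [← D.rho_mul, ← D.rho_mul, ((hbg c.val).pow_right a.val).eq], ← map_prod,
        show (∏ a : ZMod r, D.ρ (g ^ a.val) v) = 1 from hv0, map_one]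
    have hcomm : ∀ b, Commute b g → ∀ v, D.ρ b (D.Nm r g v) = D.Nm r g (D.ρ b v) := fun b hb v => by
      rw [Mdl.Nm, map_prod]
      exact Finset.prod_congr rfl fun c _ => by rw [← D.rho_mul, ← D.rho_mul, (hb.pow_right _).eq]
    have hk := F.kill (h := h) (Y := {v | v ∈ D.fix X ∧ D.Nm r g v = 1}) (fun b hb v hv =>
      ⟨hpres b (hbX b hb) v hv.1, by rw [← hcomm b (hcm b hb g hg), hv.2, map_one]⟩) hncj hn1
      fun v hv => hW v hv.1 hv.2
    intro w hw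
    have hN : D.Nm r g w ∈ D.fix X := Subgroup.prod_mem _ fun c _ => hgX _ _ hw
    have h1 : D.Nm r g (w * D.Nm r g w) = 1 := by
      have e : D.Nm r g (w * D.Nm r g w) = D.Nm r g w * D.Nm r g (D.Nm r g w) := by
        simp only [Mdl.Nm, map_mul, Finset.prod_mul_distrib]
      rw [e, D.Nm_of_fixed F.two r hr2 (D.Nm_fixed r hgr w), F.two]
    have h2 := hk _ ⟨mul_mem hw hN, h1⟩
    rw [mul_eq_one_iff_eq_inv, D.inv_eq F.two] at h2
    rw [h2]
    exact D.Nm_fixed r hgr w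

/-- there is no proper factor -/
theorem absurd_fac : False := by
  classical
  haveI : Fact (Nat.Prime 2) := ⟨Nat.prime_two⟩
  have hnotinv : ∀ {y : H}, orderOf y = 2 → y * y = 1 := fun {y} hy => by
    rw [← pow_two, ← hy, pow_orderOf_eq_one]
  obtain ⟨t0, ht0⟩ := exists_prime_orderOf_dvd_card' (G := ↥F.T) 2 (even_iff_two_dvd.1 F.even_card)
  rw [← Subgroup.orderOf_coe] at ht0
  haveI : Nonempty {y : H // y ∈ F.T ∧ orderOf y = 2} := ⟨⟨t0, t0.2, ht0⟩⟩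
  obtain ⟨⟨x, hxT, hx⟩, hmax⟩ := Finite.exists_max fun y : {y : H // y ∈ F.T ∧ orderOf y = 2} =>
    Nat.card ↥(D.fix (Subgroup.zpowers y.1))
  have hx1 : x ≠ 1 := fun e => by rw [e, orderOf_one] at hx; norm_num at hx
  have mem_fx : ∀ {y : H} {w : V}, w ∈ D.fix (Subgroup.zpowers y) ↔ D.ρ y w = w := fun {y w} =>
    ⟨fun h => h y (Subgroup.mem_zpowers y), fun h k hk => D.mem_stab.1
      ((Subgroup.zpowers_le.2 (D.mem_stab.2 h) : Subgroup.zpowers y ≤ D.stab w) hk)⟩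
  obtain ⟨W, hW⟩ : ∃ W, W = D.fix (Subgroup.zpowers x) := ⟨_, rfl⟩
  obtain ⟨w0, hw0, hw0x⟩ := D.inv_fix F.two (hnotinv hx)
  let P : Subgroup H :=
    { carrier := {t | t ∈ F.T ∧ ∀ w ∈ W, D.ρ t w = w}
      one_mem' := ⟨one_mem _, fun y _ => D.rho_one y⟩
      mul_mem' := fun {a b} ha hb => ⟨mul_mem ha.1 hb.1, fun y hy => by rw [D.rho_mul, hb.2 y hy, ha.2 y hy]⟩
      inv_mem' := fun {a} ha => ⟨inv_mem ha.1, fun y hy => D.mem_stab.1 (inv_mem (D.mem_stab.2 (ha.2 y hy)))⟩ }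
  let M0 : Submonoid H :=
    { carrier := {t | t ∈ F.T ∧ ∀ w ∈ W, D.ρ t w ∈ W}
      one_mem' := ⟨one_mem _, fun w hw => by rwa [D.rho_one]⟩
      mul_mem' := fun {a b} ha hb => ⟨mul_mem ha.1 hb.1, fun w hw => by rw [D.rho_mul]; exact ha.2 _ (hb.2 w hw)⟩ }
  let M : Subgroup H :=
    { M0 with
      inv_mem' := fun {t} ht => by
        have e : t⁻¹ = t ^ (orderOf t - 1) := inv_eq_of_mul_eq_one_right (by
          rw [← pow_succ', Nat.sub_add_cancel (orderOf_pos t), pow_orderOf_eq_one])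
        rw [e]
        exact M0.pow_mem ht _ }
  have hxP : x ∈ P := ⟨hxT, fun w hw => mem_fx.1 (hW ▸ hw)⟩
  have hMP : ∀ m ∈ M, ∀ t ∈ P, m⁻¹ * t * m ∈ P := fun m hm t ht =>
    ⟨mul_mem (mul_mem (inv_mem hm.1) ht.1) hm.1, fun w hw => by
      rw [D.rho_mul, D.rho_mul, ht.2 _ (hm.2 w hw), D.rho_inv]⟩
  have hPT : P ≤ F.T := fun t ht => ht.1
  have hWfix : ∀ w ∈ W, w ∈ D.fix P := fun w hw t ht => ht.2 w hw
  have hprime : ∀ r : ℕ, r.Prime → ∀ y ∈ M, orderOf y = r → y ∈ P := fun r hr y hy ho => by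
    haveI : Fact r.Prime := ⟨hr⟩
    exact ⟨hy.1, fun w hw => F.fix_of_norm hPT hxP hx1 hy.1 (ho ▸ pow_orderOf_eq_one y) (hMP y hy) w
      (hWfix w hw)⟩
  have hinvM : ∀ y ∈ M, orderOf y = 2 → D.fix (Subgroup.zpowers y) = W := fun y hy ho => by
    refine (Subgroup.eq_of_le_of_card_ge (fun w hw => mem_fx.2 ((hprime 2 Nat.prime_two y hy ho).2 w hw)) ?_).symm
    rw [hW]
    exact hmax ⟨y, hy.1, ho⟩
  have hout : ∀ g ∈ F.T, (g * x * g⁻¹ ∈ M) → g ∈ M := fun g hg hgx => ⟨hg, fun w hw => by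
    rw [← hinvM _ hgx ((MulAut.conj g).orderOf_eq x |>.trans hx), mem_fx, ← D.rho_mul,
      show g * x * g⁻¹ * g = g * x by group, D.rho_mul, mem_fx.1 (show w ∈ D.fix (Subgroup.zpowers x) by rw [← hW]; exact hw)]⟩
  obtain ⟨g0, hg0T, hg0⟩ : ∃ g ∈ F.T, g ∉ M := by
    by_contra hno
    push Not at hno
    rcases F.simpleT (X := P) hPT (fun b hb t ht => by
        simpa using hMP b⁻¹ (inv_mem (hno b hb)) t ht) with e | e
    · exact hx1 (Subgroup.mem_bot.1 (e ▸ hxP))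
    · refine F.nofix 1 hw0 fun b hb => ?_
      rw [F.cj_one] at hb
      exact ((show b ∈ P from e.symm ▸ hb)).2 w0 (hW ▸ mem_fx.2 hw0x)
  obtain ⟨u, hu⟩ : ∃ u, u = g0 * x * g0⁻¹ := ⟨_, rfl⟩
  have huT : u ∈ F.T := hu ▸ mul_mem (mul_mem hg0T hxT) (inv_mem hg0T)
  have huM : u ∉ M := fun h => hg0 (hout g0 hg0T (hu ▸ h))
  have huo : orderOf u = 2 := hu ▸ ((MulAut.conj g0).orderOf_eq x |>.trans hx)
  have huu : u * u = 1 := hnotinv huo
  have hui : u⁻¹ = u := inv_eq_of_mul_eq_one_right huu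
  obtain ⟨M', hM'⟩ : ∃ M' : Subgroup ↥F.T, M' = M.subgroupOf F.T := ⟨_, rfl⟩
  have mem_M' : ∀ {t : ↥F.T}, t ∈ M' ↔ (t : H) ∈ M := fun {t} => by rw [hM']; exact Subgroup.mem_subgroupOf
  have hxM : x ∈ M := ⟨hxT, fun w hw => by rw [hxP.2 w hw]; exact hw⟩
  have hse : Cfsg.IsStronglyEmbedded M' := by
    refine ⟨fun e => hg0 (mem_M'.1 (e ▸ Subgroup.mem_top (⟨g0, hg0T⟩ : ↥F.T))), ?_, fun g hg => ?_⟩
    · rw [even_iff_two_dvd, ← (orderOf_eq_prime (p := 2) (x := (⟨⟨x, hxT⟩, mem_M'.2 hxM⟩ : ↥M'))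
        (Subtype.ext (Subtype.ext (by simpa [pow_two] using hnotinv hx)))
        (fun e => hx1 (congrArg (fun z : ↥M' => ((z : ↥F.T) : H)) e)))]
      exact orderOf_dvd_natCard _
    rcases Nat.even_or_odd (Nat.card ↥(M' ⊓ M'.map (MulAut.conj g).toMonoidHom)) with he | he
    swap; · exact he
    exfalso
    obtain ⟨⟨y, hy1, hy2⟩, hy⟩ := exists_prime_orderOf_dvd_card' (G := ↥(M' ⊓ M'.map (MulAut.conj g).toMonoidHom)) 2
      (even_iff_two_dvd.1 he)
    rw [← Subgroup.orderOf_coe, ← Subgroup.orderOf_coe] at hy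
    obtain ⟨z, hz, hzy⟩ := hy2
    change g * z * g⁻¹ = y at hzy
    have hzo : orderOf (z : H) = 2 := by
      rw [← hy]
      show orderOf (z : H) = orderOf ((y : ↥F.T) : H)
      rw [← hzy, Subgroup.coe_mul, Subgroup.coe_mul, Subgroup.coe_inv]
      exact ((MulAut.conj (g : H)).orderOf_eq (z : H)).symm
    refine hg (mem_M'.2 ⟨g.2, fun w hw => ?_⟩)
    rw [← hinvM _ (mem_M'.1 hy1) hy, mem_fx, ← hzy]
    show D.ρ ((g : H) * z * (g : H)⁻¹) (D.ρ g w) = D.ρ g w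
    rw [← D.rho_mul, inv_mul_cancel_right, D.rho_mul,
      mem_fx.1 (show w ∈ D.fix (Subgroup.zpowers (z : H)) by rw [hinvM _ (mem_M'.1 hz) hzo]; exact hw)]
  have hcore := @fun (s t : ↥F.T) hs hsM ht htM => (S1225.result M' hse ⟨u, huT⟩
    (by rw [← Subgroup.orderOf_coe]; exact huo) (fun h => huM (mem_M'.1 h)) s t hs hsM ht htM).1
  by_cases hD : ∀ d ∈ M, u * d * u ∈ M → d = 1
  · have huniq : ∀ t : ↥F.T, orderOf t = 2 → t ∈ M' → t = ⟨x, hxT⟩ := fun t ht htM => by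
      obtain ⟨d, ⟨hd1, z, hz, hzd⟩, hd⟩ := hcore ⟨x, hxT⟩ t (by rw [← Subgroup.orderOf_coe]; exact hx)
        (mem_M'.2 hxM) ht htM
      have hd0 : d = 1 := Subtype.ext (hD d (mem_M'.1 hd1) (by
        rw [← hzd]
        show u * (u * (z : H) * u⁻¹) * u ∈ M
        rw [hui, show u * (u * (z : H) * u) * u = (u * u) * z * (u * u) by group, huu, one_mul, mul_one]
        exact mem_M'.1 hz))
      rw [← hd, hd0, one_mul, inv_one, mul_one]
    have hCM : ∀ c : ↥F.T, c * ⟨x, hxT⟩ = ⟨x, hxT⟩ * c → c ∈ M' := fun c hc => mem_M'.2 ⟨c.2, fun w hw => by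
      rw [hW, mem_fx, ← D.rho_mul, ← show (c : H) * x = x * c from congrArg Subtype.val hc, D.rho_mul,
        mem_fx.1 (show w ∈ D.fix (Subgroup.zpowers x) by rw [← hW]; exact hw)]⟩
    have hxo : orderOf (⟨x, hxT⟩ : ↥F.T) = 2 := by rw [← Subgroup.orderOf_coe]; exact hx
    obtain ⟨P2, hP2⟩ := (IsPGroup.of_card (p := 2) (n := 1) (G := ↥(Subgroup.zpowers (⟨x, hxT⟩ : ↥F.T)))
      (by rw [Nat.card_zpowers, hxo, pow_one])).exists_le_sylow
    have hxP2 : (⟨x, hxT⟩ : ↥F.T) ∈ P2 := hP2 (Subgroup.mem_zpowers _)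
    haveI : Nontrivial ↥P2 := ⟨⟨⟨_, hxP2⟩, 1, fun e => hx1 (congrArg (fun z : ↥P2 => ((z : ↥F.T) : H)) e)⟩⟩
    have hZ := P2.2.center_nontrivial
    obtain ⟨k, hk⟩ := IsPGroup.iff_card.1 (P2.2.to_subgroup (Subgroup.center ↥P2))
    have hdvd : 2 ∣ Nat.card ↥(Subgroup.center ↥P2) := by
      change 2 ∣ Nat.card ↥(Subgroup.center ↥(P2 : Subgroup ↥F.T))
      rw [show Nat.card ↥(Subgroup.center ↥(P2 : Subgroup ↥F.T)) = 2 ^ k from hk]
      refine dvd_pow_self 2 fun e => ?_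
      rw [e, pow_zero] at hk
      exact (Subgroup.nontrivial_iff_ne_bot _).1 hZ (Subgroup.card_eq_one.1 hk)
    obtain ⟨⟨z, hzc⟩, hz⟩ := exists_prime_orderOf_dvd_card' (G := ↥(Subgroup.center ↥P2)) 2 hdvd
    rw [← Subgroup.orderOf_coe, ← Subgroup.orderOf_coe] at hz
    have hzc' : ∀ p : ↥P2, (z : ↥F.T) * p = p * z := fun p =>
      congrArg Subtype.val (Subgroup.mem_center_iff.1 hzc p).symm
    have hzx : (z : ↥F.T) = ⟨x, hxT⟩ := huniq _ hz (hCM _ (hzc' ⟨_, hxP2⟩))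
    obtain ⟨N0, hN0, hodd, hcom⟩ := S0215.result P2 ⟨x, hxT⟩ hxo hxP2 fun g hg => by
      refine huniq _ ?_ (hCM _ ?_)
      · exact ((MulAut.conj g).orderOf_eq _).trans hxo
      · have := hzc' ⟨_, hg⟩
        rw [hzx] at this
        exact this.symm
    rcases F.simpleT (X := N0.map F.T.subtype) (Subgroup.map_subtype_le N0) (fun b hb t ht => by
        obtain ⟨t, ht, rfl⟩ := ht
        exact ⟨⟨b, hb⟩ * t * ⟨b, hb⟩⁻¹, hN0.conj_mem t ht _, rfl⟩) with e | e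
    · refine hg0 (mem_M'.1 (hCM ⟨g0, hg0T⟩ ?_))
      rw [(Subgroup.map_eq_bot_iff_of_injective N0 F.T.subtype_injective).1 e] at hcom
      have h1 := Subgroup.mem_bot.1 (hcom ⟨g0, hg0T⟩)
      rw [mul_inv_eq_one, mul_inv_eq_iff_eq_mul] at h1
      exact h1.symm
    · rw [← Subgroup.card_map_of_injective F.T.subtype_injective, e] at hodd
      exact (Nat.not_odd_iff_even.2 F.even_card) hodd
  · push Not at hD
    obtain ⟨d, hdM, hduM, hd1⟩ := hD
    obtain ⟨r, hr, hrd⟩ := Nat.exists_prime_and_dvd (n := orderOf d) (fun e => hd1 (orderOf_eq_one_iff.1 e))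
    obtain ⟨e, he⟩ : ∃ e, e = d ^ (orderOf d / r) := ⟨_, rfl⟩
    have heo : orderOf e = r := by rw [he]; exact orderOf_pow_orderOf_div (orderOf_pos d).ne' hrd
    have heP : e ∈ P := hprime r hr e (he ▸ pow_mem hdM _) heo
    have hue : u * e * u = (u * d * u) ^ (orderOf d / r) := by
      conv_rhs => arg 1; rw [← hui]; lhs; lhs; rw [hui]
      rw [conj_pow, ← he, hui]
    have hueP : u * e * u ∈ P := hprime r hr _ (hue ▸ pow_mem hduM _) (by
      conv_lhs => arg 1; rw [← hui]; lhs; lhs; rw [hui]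
      exact ((MulAut.conj u).orderOf_eq e).trans heo)
    let X : Subgroup H := P ⊓ P.comap (MulAut.conj u).toMonoidHom
    have memX : ∀ {t}, t ∈ X ↔ t ∈ P ∧ u * t * u ∈ P := fun {t} => by
      show _ ∧ u * t * u⁻¹ ∈ P ↔ _
      rw [hui]; rfl
    have he1 : e ≠ 1 := fun h => hr.one_lt.ne' (by rw [← heo, h, orderOf_one])
    refine huM ⟨huT, fun w hw => ?_⟩
    rw [F.fix_of_norm (X := X) (fun t ht => (memX.1 ht).1.1) (memX.2 ⟨heP, hueP⟩) he1 (r := 2) huT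
      (by rw [pow_two]; exact huu) (fun t ht => by
        rw [hui, memX]
        refine ⟨(memX.1 ht).2, ?_⟩
        rw [show u * (u * t * u) * u = (u * u) * t * (u * u) by group, huu, one_mul, mul_one]
        exact (memX.1 ht).1) w (fun t ht => (memX.1 ht).1.2 w hw)]
    exact hw

end Fac

namespace Mdl

variable {H : Type u} {V : Type v} [Group H] [CommGroup V] [Finite H] [Finite V] (D : Mdl H V)
include D

/-- there is a simple non-abelian normal subgroup with trivial centraliser -/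
theorem almost_simple (hV : ∀ w : V, w * w = 1) :
    ∃ T : Subgroup H, T.Normal ∧ IsSimpleGroup ↥T ∧ ¬ IsMulCommutative ↥T ∧
      Subgroup.centralizer (T : Set H) = ⊥ := by
  obtain ⟨N, ⟨hne, hN⟩, hmin0⟩ := exists_min (fun K : Subgroup H => K ≠ ⊥ ∧ K.Normal) ⟨⊤, fun e =>
    D.insol (Group.isSolvable_of_comm fun a b => by
      have h1 : ∀ c : H, c = 1 := fun c => Subgroup.mem_bot.1 (e ▸ Subgroup.mem_top c)
      rw [h1 a, h1 b]), inferInstance⟩
  have hmin : ∀ K : Subgroup H, K.Normal → K ≤ N → K = ⊥ ∨ K = N := fun K hK hle =>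
    (eq_or_ne K ⊥).imp_right fun h => hmin0 K ⟨h, hK⟩ hle
  haveI := hN
  obtain ⟨-, hC⟩ := D.min_normal hV hne hmin
  obtain ⟨T, ⟨hTne, hTN, hTn⟩, hTmin⟩ := exists_min
    (fun K : Subgroup H => K ≠ ⊥ ∧ K ≤ N ∧ ∀ n ∈ N, ∀ x ∈ K, n * x * n⁻¹ ∈ K)
    ⟨N, hne, le_rfl, fun n hn x hx => mul_mem (mul_mem hn hx) (inv_mem hn)⟩
  by_cases hTeq : T = N
  · subst hTeq
    haveI := (Subgroup.nontrivial_iff_ne_bot T).2 hne
    refine ⟨T, hN, ⟨fun K hK => ?_⟩, fun hc => hne (le_bot_iff.1 ?_), hC⟩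
    · rcases eq_or_ne K ⊥ with e | e
      · exact Or.inl e
      refine Or.inr (Subgroup.map_injective T.subtype_injective ?_)
      rw [← MonoidHom.range_eq_map, Subgroup.range_subtype]
      refine hTmin _ ⟨fun h => e ((Subgroup.map_eq_bot_iff_of_injective K T.subtype_injective).1 h),
        Subgroup.map_subtype_le K, fun n hn x hx => ?_⟩ (Subgroup.map_subtype_le K)
      obtain ⟨x, hx, rfl⟩ := hx
      exact ⟨⟨n, hn⟩ * x * ⟨n, hn⟩⁻¹, hK.conj_mem x hx _, rfl⟩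
    · rw [← hC]
      exact fun a ha => Subgroup.mem_centralizer_iff.2 fun b hb =>
        congrArg Subtype.val (hc.is_comm.comm ⟨b, hb⟩ ⟨a, ha⟩)
  · exact absurd (Fac.absurd_fac (D := D) ⟨N, hN, hmin, hC, T, hTN, hTne, hTn, fun K hle hK =>
      (eq_or_ne K ⊥).imp_right fun h => hTmin K ⟨h, hle.trans hTN, hK⟩ hle, hTeq, hV⟩) not_false

end Mdl

end Cfsg.Agent.Perm.ExtPrim
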